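import Mathlib

/-!
# Largest solvable normal subgroup
-/

set_option autoImplicit false

namespace Cfsg.Lib.Kazarin

open Subgroup

variable {G : Type*} [Group G]

theorem isSolvable_normal_sup (N K : Subgroup G) [K.Normal] (hN : Group.IsSolvable N)
    (hK : Group.IsSolvable K) : Group.IsSolvable ↥(N ⊔ K) := by
  have := hN
  have := hK
  let g : ↥(N ⊔ K) →* G ⧸ K := (QuotientGroup.mk' K).comp (N ⊔ K).subtype
  have hr : g.range = N.map (QuotientGroup.mk' K) := by
    rw [MonoidHom.range_comp, range_subtype, Subgroup.map_sup, QuotientGroup.map_mk'_self,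
      sup_bot_eq]
  have hs : Group.IsSolvable g.range := by
    rw [hr]
    exact Group.isSolvable_of_surjective ((QuotientGroup.mk' K).subgroupMap_surjective N)
  refine Group.isSolvable_of_ker_le_range
    (Subgroup.inclusion (le_sup_right : K ≤ N ⊔ K)) g.rangeRestrict ?_
  intro x hx
  rw [MonoidHom.ker_rangeRestrict, MonoidHom.mem_ker] at hx
  exact ⟨⟨x, (QuotientGroup.eq_one_iff _).mp hx⟩, rfl⟩

/-- A solvable normal subgroup containing every solvable normal subgroup. -/
theorem exists_radical (G : Type*) [Group G] [Finite G] :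
    ∃ R : Subgroup G, R.Normal ∧ Group.IsSolvable R ∧
      ∀ N : Subgroup G, N.Normal → Group.IsSolvable N → N ≤ R := by
  obtain ⟨R, ⟨hRn, hRs⟩, hmax⟩ := Set.Finite.exists_maximal
    (s := {N : Subgroup G | N.Normal ∧ Group.IsSolvable N}) (Set.toFinite _)
    ⟨⊥, inferInstance, inferInstance⟩
  refine ⟨R, hRn, hRs, fun N hN hNs => ?_⟩
  exact le_sup_left.trans (hmax (y := N ⊔ R)
    ⟨Subgroup.sup_normal N R, isSolvable_normal_sup N R hNs hRs⟩ le_sup_right)

/-- A solvable normal subgroup of a normal subgroup lies in a solvable normal subgroup of the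
whole group. -/
theorem exists_solvable_normal_over [Finite G] (M : Subgroup G) [M.Normal] (S : Subgroup M)
    (hS : S.Normal) (hSs : Group.IsSolvable S) :
    ∃ N : Subgroup G, N.Normal ∧ Group.IsSolvable N ∧ S.map M.subtype ≤ N := by
  obtain ⟨R, hRn, hRs, hR⟩ := exists_radical M
  have hchar : R.Characteristic := by
    rw [characteristic_iff_map_le]
    intro φ
    exact hR _ (hRn.map φ.toMonoidHom φ.surjective)
      (Group.isSolvable_of_surjective (φ.toMonoidHom.subgroupMap_surjective R))
  refine ⟨R.map M.subtype, inferInstance, ?_, map_mono (hR S hS hSs)⟩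
  exact Group.isSolvable_of_surjective (M.subtype.subgroupMap_surjective R)

theorem relIndex_sup_of_normal [Finite G] (C N : Subgroup G) [N.Normal] :
    C.relIndex (C ⊔ N) = C.relIndex N := by
  have h1 := relIndex_mul_index (inf_le_right : C ⊓ N ≤ N)
  have h2 := relIndex_mul_index (inf_le_left : C ⊓ N ≤ C)
  rw [inf_relIndex_right] at h1
  rw [inf_relIndex_left, ← relIndex_sup_right C N] at h2
  have h3 := relIndex_mul_index (le_sup_right : N ≤ C ⊔ N)
  have h4 := relIndex_mul_index (le_sup_left : C ≤ C ⊔ N)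
  rw [← h3, ← h2, ← h4] at h1
  have hpos : 0 < N.relIndex (C ⊔ N) * (C ⊔ N).index :=
    Nat.pos_of_ne_zero (mul_ne_zero FiniteIndex.index_ne_zero FiniteIndex.index_ne_zero)
  refine (Nat.eq_of_mul_eq_mul_right hpos ?_).symm
  linarith [h1]

theorem relIndex_dvd_index' [Finite G] (C N : Subgroup G) [N.Normal] :
    C.relIndex N ∣ C.index :=
  relIndex_sup_of_normal C N ▸ Dvd.intro _ (relIndex_mul_index (le_sup_left : C ≤ C ⊔ N))

end Cfsg.Lib.Kazarin
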