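import Cfsg.Agent.Lib.Block.Vanish
import Cfsg.Agent.Lib.Block.RegInt
import Cfsg.Agent.Lib.Char.Burnside
import Cfsg.Agent.Lib.Core.PSolvable
import Cfsg.Agent.Lib.Kazarin.Radical
import Cfsg.Agent.S0144

/-!
# Kazarin's theorem: a class of prime power size lies in the solvable radical

For a prime `r` different from the prime of the class size, no irreducible character of the
principal `r`-block vanishes at the class representative.
-/

set_option autoImplicit false

namespace Cfsg.Lib.Kazarin

open Cfsg Subgroup Cfsg.Lib.Char Cfsg.Lib.Block Module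
open scoped commutatorElement

universe u

variable {G : Type u} [Group G]

theorem principal_ne_zero [Finite G] {r p k : ℕ} {I : Ideal AlgInt} (hM : IsPModular r I)
    (hp : p.Prime) (hrp : r ≠ p) {x : G}
    (hclass : (centralizer ({x} : Set G)).index = p ^ k) {χ : IrrCharacter G}
    (hχ : χ ∈ principalBlock I G) :
    (χ : G → ℂ) x ≠ 0 := by
  intro h0
  have h1 : MemLocalIdeal I (centralChar (fun _ : G => (1 : ℂ)) x - centralChar (χ : G → ℂ) x) :=
    hχ x
  simp only [centralChar, h0, mul_zero, zero_div, sub_zero, mul_one, div_one, hclass] at h1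
  exact hrp ((Nat.prime_dvd_prime_iff_eq hM.1 hp).mp
    (hM.1.dvd_of_dvd_pow ((memLocalIdeal_natCast_iff hM _).mp h1)))

/-- A nonlinear character at which the element acts as a scalar. -/
theorem exists_scalar_rep [Finite G] (M : Subgroup G) [M.Normal] (x : G) {q r p k : ℕ}
    (hq : q.Prime) (hr : r.Prime) (hp : p.Prime) (hrq : r ≠ q) (hrp : r ≠ p) (hxq : x ^ q = 1)
    (hgen : M ⊔ zpowers x = ⊤) (hrM : r ∣ Nat.card M)
    (hclass : (centralizer ({x} : Set G)).index = p ^ k) :
    ∃ (n : ℕ) (ρ : Representation ℂ G (Fin n → ℂ)),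
      ¬ M ≤ MonoidHom.ker ρ ∧ x ∈ scalarSubgroup ρ := by
  classical
  have := Fintype.ofFinite G
  have := Fact.mk hr
  obtain ⟨I, hI⟩ := exists_isPModular hr
  obtain ⟨y, hy⟩ := exists_prime_orderOf_dvd_card' (G := M) r hrM
  have hyne : ¬ IsConj (pPt r ((y : G))) (pPt r (1 : G))⁻¹ := by
    rw [(pPt_eq_one_iff (1 : G)).2 (by rw [orderOf_one]; exact hr.not_dvd_one), inv_one,
      isConj_one_left, pPt_eq_one_iff, not_not, orderOf_coe, hy]
  have hsum := sum_block_mul_eq_zero hI (vInt_indVec hI (isPBlock_principal (G := G))) hyne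
  rw [finsum_mem_eq_toFinset_sum] at hsum
  by_contra hno
  push Not at hno
  have hdeg : ∀ χ ∈ principalBlock I G, χ ≠ trivChar G →
      ∃ d : ℕ, (χ : G → ℂ) 1 = d ∧ p ∣ d := by
    rintro ⟨_, n, ρ, hρ, rfl⟩ hB hne
    refine ⟨finrank ℂ (Fin n → ℂ), ρ.char_one, ?_⟩
    by_contra hpd
    have hnz := principal_ne_zero hI hp hrp hclass hB
    have hcop : Nat.Coprime (finrank ℂ (Fin n → ℂ)) (classFinset x).card := by
      rw [card_classFinset, hclass]
      exact (((Nat.Prime.coprime_iff_not_dvd hp).mpr hpd).symm).pow_right k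
    have hs : x ∈ scalarSubgroup ρ :=
      (norm_character_eq_iff ρ x).mp ((character_zero_or_norm ρ x hcop).resolve_left hnz)
    have hMk : M ≤ MonoidHom.ker ρ := by_contra fun h => hno n ρ h hs
    obtain ⟨c, hc⟩ := hs
    have hd : (finrank ℂ (Fin n → ℂ) : ℂ) ≠ 0 :=
      Nat.cast_ne_zero.mpr (irreducible_finrank_pos ρ).ne'
    have hval : ρ.character x = c * (finrank ℂ (Fin n → ℂ) : ℂ) := by
      rw [Representation.character, hc, map_smul, LinearMap.trace_id, smul_eq_mul]
    have h1 : MemLocalIdeal I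
        (centralChar (fun _ : G => (1 : ℂ)) x - centralChar ρ.character x) := hB x
    simp only [centralChar, hclass, hval, ρ.char_one, mul_one, div_one] at h1
    rw [← mul_assoc, mul_div_cancel_right₀ _ hd, ← mul_one_sub] at h1
    have hcq : c ^ q = 1 := by
      have h2 : (c • LinearMap.id : Module.End ℂ (Fin n → ℂ)) ^ q = 1 := by
        rw [← hc, ← map_pow, hxq, map_one]
      rw [smul_pow, ← Module.End.one_eq_id, one_pow] at h2
      have : Nontrivial (Fin n → ℂ) :=
        Module.nontrivial_of_finrank_pos (irreducible_finrank_pos ρ)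
      exact smul_left_injective ℂ (one_ne_zero (α := Module.End ℂ (Fin n → ℂ)))
        (h2.trans (one_smul ℂ (1 : Module.End ℂ (Fin n → ℂ))).symm)
    have hrq' : ¬ r ∣ q := fun h => hrq ((Nat.prime_dvd_prime_iff_eq hr hq).mp h)
    have hc1 : c = 1 := by
      refine eq_one_of_memLocalIdeal_sub_one hI hrq' hcq ?_
      have hci : c ∈ locRing hI := root_of_unity_mem_locRing hI hq.pos hcq
      rw [← res_eq_zero_iff hI (mul_mem (natCast_mem_locRing hI _)
        (sub_mem (one_mem _) hci)), res_mul hI (natCast_mem_locRing hI _)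
        (sub_mem (one_mem _) hci), res_natCast, mul_eq_zero,
        res_sub hI (one_mem _) hci, sub_eq_zero] at h1
      rw [← res_eq_iff hI hci (one_mem _)]
      refine (h1.resolve_left fun h => ?_).symm
      exact hrp ((Nat.prime_dvd_prime_iff_eq hr hp).mp
        (hr.dvd_of_dvd_pow ((CharP.cast_eq_zero_iff (resField hI) r _).mp h)))
    have hker : MonoidHom.ker ρ = ⊤ := by
      refine top_le_iff.mp (hgen ▸ sup_le hMk (zpowers_le.mpr ?_))
      rw [MonoidHom.mem_ker, hc, hc1, one_smul]; rfl
    apply hne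
    by_contra hne'
    have horth := classInner_irr_ne (G := G) ⟨n, ρ, hρ, rfl⟩ (trivChar G).2
      (fun h => hne' (Subtype.ext h))
    have hconst : ∀ g : G, ρ.character g = (finrank ℂ (Fin n → ℂ) : ℂ) := fun g => by
      rw [Representation.character, (MonoidHom.mem_ker).mp (hker ▸ mem_top g), LinearMap.trace_one]
    rw [classInner, mul_eq_zero,
      or_iff_right (inv_ne_zero (Nat.cast_ne_zero.mpr Nat.card_pos.ne'))] at horth
    simp only [hconst, trivChar_coe, map_one, mul_one, Finset.sum_const, nsmul_eq_mul,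
      mul_eq_zero, Nat.cast_eq_zero, Finset.card_eq_zero, Finset.univ_eq_empty_iff] at horth
    exact horth.elim (fun h => h.false (1 : G)) (irreducible_finrank_pos ρ).ne'
  have htriv : trivChar G ∈ (principalBlock I G).toFinset :=
    Set.mem_toFinset.mpr (trivChar_mem_principal hI)
  rw [← Finset.add_sum_erase _ _ htriv, trivChar_coe] at hsum
  simp only [one_mul] at hsum
  refine not_isIntegral_one_div_prime hp ?_
  rw [eq_neg_of_add_eq_zero_left hsum, neg_div, Finset.sum_div]
  refine (IsIntegral.sum _ fun χ hχ => ?_).neg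
  obtain ⟨hne, hB⟩ := Finset.mem_erase.mp hχ
  obtain ⟨d, hd, m, rfl⟩ := hdeg χ (Set.mem_toFinset.mp hB) hne
  rw [hd]
  push_cast
  rw [mul_comm, mul_assoc, mul_div_cancel_left₀ _ (Nat.cast_ne_zero.mpr hp.ne_zero)]
  exact isIntegral_algebraMap.mul (χ.2.isCharacter.isIntegral _)

theorem exists_third_prime {H : Type*} [Group H] [Finite H] (hH : ¬ Group.IsSolvable H) {p q : ℕ}
    (hp : p.Prime) (hq : q.Prime) :
    ∃ r : ℕ, r.Prime ∧ r ≠ p ∧ r ≠ q ∧ r ∣ Nat.card H := by
  by_contra hno
  push Not at hno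
  by_cases hpq : p = q
  · subst hpq
    have := Fact.mk hp
    have hpg : IsPGroup p H := IsPGroup.of_card (G := H) (n := (Nat.card H).primeFactorsList.length) (by
      refine Nat.eq_prime_pow_of_unique_prime_dvd (Nat.card_pos (α := H)).ne' fun {d} hd hdvd => ?_
      by_contra hne
      exact hno d hd hne hne hdvd)
    have := hpg.isNilpotent
    exact hH inferInstance
  · refine hH (Cfsg.Agent.S0144.result p q ((Nat.card H).factorization p)
      ((Nat.card H).factorization q) hp hq ?_)
    conv_lhs => rw [← Nat.prod_factorization_pow_eq_self (n := Nat.card H) (Nat.card_pos (α := H)).ne']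
    rw [Finsupp.prod_of_support_subset _ (s := {p, q}) ?_ _ (fun _ _ => pow_zero _),
      Finset.prod_pair hpq]
    intro d hd
    rw [Nat.support_factorization] at hd
    simp only [Finset.mem_insert, Finset.mem_singleton]
    by_contra hne
    push Not at hne
    exact hno d (Nat.prime_of_mem_primeFactors hd) hne.1 hne.2
      (Nat.dvd_of_mem_primeFactors hd)

/-- **Kazarin's theorem**: an element with conjugacy class of prime power size lies in a solvable
normal subgroup. -/
theorem exists_solvable_normal_mem : ∀ (n : ℕ) (G : Type u) [Group G] [Finite G], Nat.card G = n →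
    ∀ (x : G) {p k : ℕ}, p.Prime → (centralizer ({x} : Set G)).index = p ^ k →
    ∃ N : Subgroup G, N.Normal ∧ Group.IsSolvable N ∧ x ∈ N := by
  intro n
  induction n using Nat.strong_induction_on with
  | _ n ih =>
  intro G _ _ hn x p k hp hclass
  subst hn
  obtain ⟨R, hRn, hRs, hR⟩ := exists_radical G
  by_cases hx1 : x = 1
  · exact ⟨⊥, inferInstance, inferInstance, hx1 ▸ one_mem _⟩
  by_cases hRbot : R ≠ ⊥
  · have hlt : Nat.card (G ⧸ R) < Nat.card G := by
      rw [← index_eq_card, ← R.card_mul_index]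
      exact lt_mul_of_one_lt_left (Nat.pos_of_ne_zero index_ne_zero_of_finite)
        (R.one_lt_card_iff_ne_bot.mpr hRbot)
    have hdvd : (centralizer ({((x : G ⧸ R))} : Set (G ⧸ R))).index ∣ p ^ k := by
      refine hclass ▸ (index_dvd_of_le ?_).trans
        (index_map_dvd _ (QuotientGroup.mk'_surjective R))
      rintro _ ⟨g, hg, rfl⟩
      rw [SetLike.mem_coe, mem_centralizer_singleton_iff] at hg
      rw [mem_centralizer_singleton_iff]
      simpa using congrArg (QuotientGroup.mk' R) hg
    obtain ⟨j, -, hj⟩ := (Nat.dvd_prime_pow hp).mp hdvd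
    obtain ⟨N, hNn, hNs, hxN⟩ := ih _ hlt (G ⧸ R) rfl (x : G ⧸ R) hp hj
    refine ⟨N.comap (QuotientGroup.mk' R), inferInstance, ?_, hxN⟩
    refine Group.isSolvable_of_ker_le_range
      (Subgroup.inclusion (show R ≤ N.comap (QuotientGroup.mk' R) from fun g hg => by
        rw [mem_comap, QuotientGroup.mk'_apply, (QuotientGroup.eq_one_iff g).mpr hg]
        exact one_mem N))
      ((QuotientGroup.mk' R).subgroupComap N) ?_
    intro g hg
    have h1 : (QuotientGroup.mk' R) (g : G) = 1 := congrArg Subtype.val (MonoidHom.mem_ker.mp hg)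
    exact ⟨⟨g, (QuotientGroup.eq_one_iff _).mp h1⟩, rfl⟩
  push Not at hRbot
  exfalso
  have hss : ∀ N : Subgroup G, N.Normal → Group.IsSolvable N → N = ⊥ := fun N hN hNs =>
    le_bot_iff.mp (hRbot ▸ hR N hN hNs)
  -- replace `x` by a power of prime order
  obtain ⟨q, hq, hqx⟩ := Nat.exists_prime_and_dvd (fun h => hx1 (orderOf_eq_one_iff.mp h))
  obtain ⟨z, hzq, hzx⟩ : ∃ z : G, orderOf z = q ∧ z ∈ zpowers x := by
    refine ⟨x ^ (orderOf x / q), ?_, npow_mem_zpowers x _⟩
    rw [orderOf_pow_orderOf_div (orderOf_pos x).ne' hqx]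
  have hzdvd : (centralizer ({z} : Set G)).index ∣ p ^ k := by
    refine hclass ▸ index_dvd_of_le fun g hg => ?_
    obtain ⟨m, rfl⟩ := hzx
    rw [mem_centralizer_singleton_iff] at hg ⊢
    exact Commute.zpow_right hg m
  obtain ⟨k, -, hzk⟩ := (Nat.dvd_prime_pow hp).mp hzdvd
  have hz1 : z ≠ 1 := fun h => hq.ne_one (by rw [← hzq, h, orderOf_one])
  clear hzdvd hzx hqx hclass hx1
  have : Nontrivial G := ⟨⟨z, 1, hz1⟩⟩
  obtain ⟨M, hM⟩ := Lib.Core.exists_isMinNormal_univ (G := G)
  have := hM.1
  have hMs : ¬ Group.IsSolvable M := fun h => hM.2.1 (hss M hM.1 h)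
  have hnormal : ∀ (K : Subgroup G), K.Normal → ∀ S : Subgroup K, S.Normal → Group.IsSolvable S →
      S = ⊥ := by
    intro K hK S hS hSs
    obtain ⟨N, hNn, hNs, hle⟩ := exists_solvable_normal_over K S hS hSs
    rw [hss N hNn hNs, le_bot_iff] at hle
    exact (map_eq_bot_iff_of_injective S K.subtype_injective).mp hle
  have hcomm : ∀ m ∈ M, ⁅m, z⁆ = 1 := by
    intro m hm
    have hcM : ⁅m, z⁆ ∈ M := by
      rw [commutatorElement_def, show m * z * m⁻¹ * z⁻¹ = m * (z * m⁻¹ * z⁻¹) by group]
      exact mul_mem hm (hM.1.conj_mem _ (inv_mem hm) z)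
    set G0 := M ⊔ zpowers z with hG0
    have hz0 : z ∈ G0 := mem_sup_right (mem_zpowers z)
    by_cases htop : G0 = ⊤
    · obtain ⟨r, hr, hrp, hrq, hrM⟩ := exists_third_prime hMs hp hq
      obtain ⟨d, ρ, hMk, c, hc⟩ := exists_scalar_rep M z hq hr hp hrq hrp
        (hzq ▸ pow_orderOf_eq_one z) htop hrM hzk
      have hinf : M ⊓ MonoidHom.ker ρ = ⊥ := (hM.inf_eq_bot_or_le _).resolve_right hMk
      have h1 : ⁅m, z⁆ ∈ M ⊓ MonoidHom.ker ρ := by
        refine mem_inf.mpr ⟨hcM, ?_⟩
        rw [MonoidHom.mem_ker, commutatorElement_def, map_mul, map_mul, map_mul]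
        have h2 : ρ m * ρ z = ρ z * ρ m := by
          rw [hc]; refine LinearMap.ext fun w => ?_; simp
        rw [h2, mul_assoc (ρ z), ← map_mul ρ m, mul_inv_cancel, map_one, mul_one, ← map_mul,
          mul_inv_cancel, map_one]
      rwa [hinf, mem_bot] at h1
    · have hlt : Nat.card G0 < Nat.card G := (card_le_card_group G0).lt_of_ne fun h =>
        htop (eq_top_of_card_eq G0 h)
      have hd : (centralizer ({(⟨z, hz0⟩ : G0)} : Set G0)).index ∣ p ^ k := by
        have hle : (centralizer ({z} : Set G)).subgroupOf G0 ≤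
            centralizer ({(⟨z, hz0⟩ : G0)} : Set G0) := by
          intro g hg
          rw [mem_subgroupOf, mem_centralizer_singleton_iff] at hg
          rw [mem_centralizer_singleton_iff]
          exact Subtype.ext hg
        refine (index_dvd_of_le hle).trans (hzk ▸ ?_)
        show (centralizer ({z} : Set G)).relIndex G0 ∣ _
        refine dvd_trans ?_ (relIndex_dvd_index' (centralizer ({z} : Set G)) M)
        set C := centralizer ({z} : Set G) with hC
        have hzC : zpowers z ≤ C := zpowers_le.mpr (mem_centralizer_singleton_iff.mpr rfl)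
        have hsup : C ⊓ G0 ⊔ M = G0 := le_antisymm (sup_le inf_le_right le_sup_left)
          (sup_le le_sup_right ((le_inf hzC le_sup_right).trans le_sup_left))
        rw [← inf_relIndex_right C G0]
        conv_lhs => arg 2; rw [← hsup]
        rw [relIndex_sup_of_normal, ← inf_relIndex_right, inf_assoc,
          inf_eq_right.mpr (le_sup_left : M ≤ G0), inf_relIndex_right]
      obtain ⟨j, -, hj⟩ := (Nat.dvd_prime_pow hp).mp hd
      obtain ⟨N, hNn, hNs, hzN⟩ := ih _ hlt G0 rfl ⟨z, hz0⟩ hp hj
      have hMG : M ≤ G0 := le_sup_left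
      have hS : (N.comap (Subgroup.inclusion hMG)).Normal := inferInstance
      have hSs : Group.IsSolvable (N.comap (Subgroup.inclusion hMG)) :=
        Group.isSolvable_of_isSolvable_injective (f := (Subgroup.inclusion hMG).subgroupComap N)
          (fun a b h => Subtype.ext (Subgroup.inclusion_injective hMG (congrArg Subtype.val h)))
      have hbot := hnormal M hM.1 _ hS hSs
      have hmem : (⟨⁅m, z⁆, hcM⟩ : M) ∈ N.comap (Subgroup.inclusion hMG) := by
        rw [mem_comap]
        have : Subgroup.inclusion hMG ⟨⁅m, z⁆, hcM⟩ =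
            (⟨m, hMG hm⟩ : G0) * ⟨z, hz0⟩ * ⟨m, hMG hm⟩⁻¹ * (⟨z, hz0⟩ : G0)⁻¹ := rfl
        rw [this]
        exact mul_mem (hNn.conj_mem _ hzN _) (inv_mem hzN)
      rw [hbot, mem_bot] at hmem
      exact congrArg Subtype.val hmem
  have hzC : z ∈ centralizer (M : Set G) := mem_centralizer_iff.mpr fun m hm =>
    commutatorElement_eq_one_iff_mul_comm.mp (hcomm m hm)
  have hCn : (centralizer (M : Set G)).Normal := inferInstance
  set C := centralizer (M : Set G) with hC
  have hCtop : C ≠ ⊤ := by
    intro h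
    refine hMs ?_
    have : IsMulCommutative M := ⟨⟨fun a b => Subtype.ext
      (mem_centralizer_iff.mp (h ▸ mem_top (b : G) : (b : G) ∈ C) a a.2)⟩⟩
    exact Lib.Core.isSolvable_of_isMulCommutative M
  have hlt : Nat.card C < Nat.card G := (card_le_card_group C).lt_of_ne fun h =>
    hCtop (eq_top_of_card_eq C h)
  have hd : (centralizer ({(⟨z, hzC⟩ : C)} : Set C)).index ∣ p ^ k := by
    have hle : (centralizer ({z} : Set G)).subgroupOf C ≤
        centralizer ({(⟨z, hzC⟩ : C)} : Set C) := by
      intro g hg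
      rw [mem_subgroupOf, mem_centralizer_singleton_iff] at hg
      rw [mem_centralizer_singleton_iff]
      exact Subtype.ext hg
    exact (index_dvd_of_le hle).trans (hzk ▸ relIndex_dvd_index' (centralizer ({z} : Set G)) C)
  obtain ⟨j, -, hj⟩ := (Nat.dvd_prime_pow hp).mp hd
  obtain ⟨N, hNn, hNs, hzN⟩ := ih _ hlt C rfl ⟨z, hzC⟩ hp hj
  rw [hnormal C hCn N hNn hNs, mem_bot] at hzN
  exact hz1 (congrArg Subtype.val hzN)

end Cfsg.Lib.Kazarin
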